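import Groth.Agent.BSPointLib.Main
import Groth.Agent.SBStableLib.Main
import Groth.Agent.FormalCohLib.ProjAmple
import Groth.Agent.GenusZeroLib.PSmooth
import Groth.Agent.HurwitzLib.SmoothCurve
import Groth.Agent.JacAlbLib.PicDegFine
import Groth.Agent.FpTorsLib.Descent
import Groth.Agent.S1639
import Groth.Agent.S1550

/-!
# Brauer–Severi schemes: smoothness, projectivity, Galois splitting
-/

set_option autoImplicit false
set_option linter.style.haveILetI false
set_option backward.isDefEq.respectTransparency false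
universe u
open CategoryTheory CategoryTheory.Limits AlgebraicGeometry

noncomputable section

namespace BSProjLib

variable {k : Type u} [Field k] {X : Scheme.{u}}

theorem good_specMap (K : Type u) [Field K] [Algebra k K] :
    (@Surjective ⊓ @Flat ⊓ @QuasiCompact : MorphismProperty Scheme.{u})
      (Spec.map (CommRingCat.ofHom (algebraMap k K))) :=
  ⟨⟨⟨fun _ => ⟨Classical.arbitrary _, Subsingleton.elim _ _⟩⟩,
    (HasRingHomProperty.Spec_iff (P := @Flat)).2 (RingHom.flat_algebraMap_iff.2 inferInstance)⟩, inferInstance⟩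

theorem smooth_of_splitting {f : X ⟶ Spec (CommRingCat.of k)} {K : Type u} [Field K] [Algebra k K] {n : ℕ}
    (e : BrSev.Splitting f K n) : Smooth f := by
  haveI : Smooth (CohB1.ProjSpace.toSpec n K) := GenusZeroLib.smooth_toSpec n K
  refine MorphismProperty.of_pullback_snd_of_descendsAlong (P := @Smooth) (good_specMap K) ?_
  show Smooth (BrSev.bcTo f K)
  rw [← e.comm]
  infer_instance

theorem geometricallyIntegral_of_finite {f : X ⟶ Spec (CommRingCat.of k)} [IsProper f] {K : Type u} [Field K]
    [Algebra k K] [FiniteDimensional k K] {n : ℕ} (e : BrSev.Splitting f K n) : GeometricallyIntegral f := by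
  refine SBStable.geometricallyIntegral_of_splitting k f n fun M _ _ _ => ?_
  let ι : K →ₐ[k] M := IsAlgClosed.lift
  letI : Algebra K M := ι.toRingHom.toAlgebra
  haveI : IsScalarTower k K M := IsScalarTower.of_algebraMap_eq fun x => (ι.commutes x).symm
  exact SBSep.splitting_ext e

theorem main (p : X ⟶ Spec (CommRingCat.of k)) (hX : W4bk4gw11416.IsBrauerSeveri p) :
    Smooth p ∧ GeometricallyIntegral p ∧
      ∃ (N : ℕ) (i : X ⟶ CohB1.ProjSpace N k), IsClosedImmersion i ∧ i ≫ CohB1.ProjSpace.toSpec N k = p := by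
  obtain ⟨K, _, _, n, e, he⟩ := hX
  let e' : BrSev.Splitting p K n := ⟨e, he⟩
  haveI := SBTaut.isProper_of_splitting e'
  obtain ⟨L, _, _, _, ⟨eL⟩⟩ := BSPointLib.exists_finite_splitting e'
  haveI hs := smooth_of_splitting eL
  haveI hG := geometricallyIntegral_of_finite eL
  refine ⟨hs, hG, ?_⟩
  haveI : IsIntegral X := GeometricallyIntegral.isIntegral_of_subsingleton p
  letI : X.Over (Spec (CommRingCat.of k)) := ⟨p⟩
  haveI : Smooth (X ↘ Spec (CommRingCat.of k)) := hs
  have hN : Pi1.IsNormalScheme X := HurwitzLib.isNormalScheme_of_smooth (k := k)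
  haveI : IsFinite (Spec.map (CommRingCat.ofHom (algebraMap k L))) :=
    (IsFinite.SpecMap_iff _).2 (RingHom.finite_algebraMap.2 inferInstance)
  haveI : Surjective (Spec.map (CommRingCat.ofHom (algebraMap k L))) := (good_specMap L).1.1
  haveI : IsFinite (BrSev.proj p L) :=
    MorphismProperty.pullback_fst _ _ ‹IsFinite (Spec.map (CommRingCat.ofHom (algebraMap k L)))›
  haveI : Surjective (BrSev.proj p L) :=
    MorphismProperty.pullback_fst _ _ ‹Surjective (Spec.map (CommRingCat.ofHom (algebraMap k L)))›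
  let π := eL.iso.inv ≫ BrSev.proj p L
  obtain ⟨M, hM⟩ := Groth.Agent.S1639.result π hN _ (FormalCohLib.isAmple_twistProjSpace n L)
  obtain ⟨N, i, hi, hip⟩ := JacAlbLib.isHProjective_of_ample p hM
  obtain ⟨w, hw, -⟩ := FpTorsLib.exists_over_iso N k
  haveI := hi
  refine ⟨N, i ≫ w.inv, inferInstance, ?_⟩
  rw [Category.assoc, ← hw, Iso.inv_hom_id_assoc, hip]

theorem spec_resMap [X.Over (Spec (CommRingCat.of k))] (z : X) :
    Spec.map (CommRingCat.ofHom (Curv2.resMap k X z)) = X.fromSpecResidueField z ≫ (X ↘ Spec (CommRingCat.of k)) := by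
  let p := X ↘ Spec (CommRingCat.of k)
  have hc : CommRingCat.ofHom (Curv2.resMap k X z) =
      (Scheme.ΓSpecIso (CommRingCat.of k)).inv ≫ p.appTop ≫ X.presheaf.germ ⊤ z trivial ≫ X.residue z := rfl
  rw [hc, Spec.map_comp, Spec.map_comp, Spec.map_comp]
  show _ = (Spec.map (X.residue z) ≫ X.fromSpecStalk z) ≫ p
  simp only [Category.assoc]
  congr 1
  rw [← Scheme.fromSpecStalk_toSpecΓ_assoc, ← Scheme.toSpecΓ_naturality_assoc]
  simp [toSpecΓ_SpecMap_ΓSpecIso_inv]

/-- A point over a finite extension splits over it. -/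
theorem split_at (f : X ⟶ Spec (CommRingCat.of k)) [IsProper f] {n : ℕ} {L₀ : Type u} [Field L₀] [Algebra k L₀]
    [FiniteDimensional k L₀] (eL : BrSev.Splitting f L₀ n) (L : Type u) [Field L] [Algebra k L] [FiniteDimensional k L]
    (σ₀ : Spec (CommRingCat.of L) ⟶ X) (hσ₀ : σ₀ ≫ f = Spec.map (CommRingCat.ofHom (algebraMap k L))) :
    W4bk4gw11416.IsProjSpaceOver (W4bk4gw11416.baseChangeTo f L) n := by
  let σ : Spec (CommRingCat.of L) ⟶ BrSev.bc f L :=
    pullback.lift σ₀ (𝟙 _) (by rw [hσ₀, Category.id_comp])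
  -- a common finite extension
  let Ω := AlgebraicClosure k
  let a : L →ₐ[k] Ω := IsAlgClosed.lift
  let b : L₀ →ₐ[k] Ω := IsAlgClosed.lift
  let M : IntermediateField k Ω := a.fieldRange ⊔ b.fieldRange
  haveI : FiniteDimensional k a.fieldRange := a.toLinearMap.finiteDimensional_range
  haveI : FiniteDimensional k b.fieldRange := b.toLinearMap.finiteDimensional_range
  haveI : FiniteDimensional k M := IntermediateField.finiteDimensional_sup _ _
  let a' : L →ₐ[k] M := a.codRestrict M.toSubalgebra fun c => (le_sup_left : a.fieldRange ≤ M) ⟨c, rfl⟩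
  let b' : L₀ →ₐ[k] M := b.codRestrict M.toSubalgebra fun c => (le_sup_right : b.fieldRange ≤ M) ⟨c, rfl⟩
  letI : Algebra L M := a'.toRingHom.toAlgebra
  haveI : IsScalarTower k L M := IsScalarTower.of_algebraMap_eq fun c => (a'.commutes c).symm
  letI : Algebra L₀ M := b'.toRingHom.toAlgebra
  haveI : IsScalarTower k L₀ M := IsScalarTower.of_algebraMap_eq fun c => (b'.commutes c).symm
  haveI : FiniteDimensional L M := Module.Finite.of_restrictScalars_finite k L M
  obtain ⟨eM⟩ := SBSep.splitting_ext eL (M := M)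
  obtain ⟨eM'⟩ := SBSep.projSplitting_up (F := L) eM
  haveI : IsProper (BrSev.bcTo f L) := MorphismProperty.pullback_snd _ _ ‹IsProper f›
  obtain ⟨T⟩ := SBSep.split_of_point eM' σ (pullback.lift_snd _ _ _)
  -- the base change of the base change to itself
  have h1 : Spec.map (CommRingCat.ofHom (algebraMap L L)) = 𝟙 (Spec (CommRingCat.of L)) := Spec.map_id (CommRingCat.of L)
  haveI : IsIso (Spec.map (CommRingCat.ofHom (algebraMap L L))) := by rw [h1]; infer_instance
  haveI : IsIso (BrSev.proj (BrSev.bcTo f L) L) :=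
    inferInstanceAs (IsIso (pullback.fst (BrSev.bcTo f L) (Spec.map (CommRingCat.ofHom (algebraMap L L)))))
  refine ⟨(asIso (BrSev.proj (BrSev.bcTo f L) L)).symm ≪≫ T.iso, ?_⟩
  rw [Iso.trans_hom, Category.assoc, T.comm, Iso.symm_hom, asIso_inv, IsIso.inv_comp_eq]
  show pullback.snd (BrSev.bcTo f L) _ = pullback.fst (BrSev.bcTo f L) _ ≫ BrSev.bcTo f L
  rw [pullback.condition, h1, Category.comp_id]

theorem galois (p : X ⟶ Spec (CommRingCat.of k)) (hX : W4bk4gw11416.IsBrauerSeveri p) :
    ∃ (K : Type u) (_ : Field K) (_ : Algebra k K), FiniteDimensional k K ∧ IsGalois k K ∧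
      ∃ n : ℕ, W4bk4gw11416.IsProjSpaceOver (W4bk4gw11416.baseChangeTo p K) n := by
  obtain ⟨K, _, _, n, e, he⟩ := hX
  let e' : BrSev.Splitting p K n := ⟨e, he⟩
  haveI := SBTaut.isProper_of_splitting e'
  obtain ⟨L₀, _, _, _, ⟨eL⟩⟩ := BSPointLib.exists_finite_splitting e'
  haveI := SBAmitsur.isIntegral_of_splitting eL
  letI : X.Over (Spec (CommRingCat.of k)) := ⟨p⟩
  haveI : Smooth (X ↘ Spec (CommRingCat.of k)) := smooth_of_splitting eL
  obtain ⟨x, -, hfin, hsep⟩ := (Groth.Agent.S1550.result k X).nonempty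
  letI := Curv2.resAlgebra k X x
  haveI : FiniteDimensional k (X.residueField x) := hfin
  haveI : Algebra.IsSeparable k (X.residueField x) := hsep
  let S := SeparableClosure k
  let ι : X.residueField x →ₐ[k] S := IsSepClosed.lift
  let L : IntermediateField k S := IntermediateField.normalClosure k (X.residueField x) S
  haveI : FiniteDimensional k L := normalClosure.is_finiteDimensional k (X.residueField x) S
  haveI : IsGalois k L := IsGalois.normalClosure k (X.residueField x) S
  let ι' : X.residueField x →ₐ[k] L :=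
    ι.codRestrict L.toSubalgebra fun a => ι.fieldRange_le_normalClosure ⟨a, rfl⟩
  refine ⟨L, inferInstance, inferInstance, inferInstance, inferInstance, n, ?_⟩
  refine split_at p eL L (Spec.map (CommRingCat.ofHom ι'.toRingHom) ≫ X.fromSpecResidueField x) ?_
  rw [Category.assoc, show X.fromSpecResidueField x ≫ p = Spec.map (CommRingCat.ofHom (Curv2.resMap k X x)) from
    (spec_resMap (k := k) (X := X) x).symm, ← Spec.map_comp]
  exact congrArg Spec.map (CommRingCat.hom_ext (RingHom.ext fun a => ι'.commutes a))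

end BSProjLib
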